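import Cfsg.Agent.H50.G2Four.Model

/-!
# The commutator relations, checked on basis vectors
-/

set_option autoImplicit false
set_option maxRecDepth 100000
set_option maxHeartbeats 4000000

namespace Cfsg.Agent.H50.G2Four

open Cfsg.Lie Matrix

/-- Vectors with six coordinates. -/
structure V6 where
  a : K4
  b : K4
  c : K4
  d : K4
  e : K4
  f : K4
  deriving DecidableEq

/-- The vector as a function. -/
def V6.vec (v : V6) : Fin 6 → K4 := ![v.a, v.b, v.c, v.d, v.e, v.f]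

/-- The unit vectors. -/
def V6.basis : List V6 :=
  [⟨.one, .zero, .zero, .zero, .zero, .zero⟩, ⟨.zero, .one, .zero, .zero, .zero, .zero⟩,
   ⟨.zero, .zero, .one, .zero, .zero, .zero⟩, ⟨.zero, .zero, .zero, .one, .zero, .zero⟩,
   ⟨.zero, .zero, .zero, .zero, .one, .zero⟩, ⟨.zero, .zero, .zero, .zero, .zero, .one⟩]

/-- The action of a root matrix on a vector. -/
def act (t : K4) : ℕ → V6 → V6
  | 0, ⟨a, b, c, d, e, f⟩ => ⟨(K4.add' a (K4.mul' t e)), (K4.add' b (K4.mul' t f)), c, d, e, f⟩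
  | 1, ⟨a, b, c, d, e, f⟩ => ⟨(K4.add' a (K4.mul' t d)), b, (K4.add' c (K4.mul' t f)), d, e, f⟩
  | 2, ⟨a, b, c, d, e, f⟩ => ⟨(K4.add' a (K4.mul' (K4.mul' t t) f)), (K4.add' b (K4.mul' t d)), (K4.add' c (K4.mul' t e)), d, e, f⟩
  | 3, ⟨a, b, c, d, e, f⟩ => ⟨(K4.add' a (K4.mul' t c)), (K4.add' b (K4.mul' (K4.mul' t t) e)), c, (K4.add' d (K4.mul' t f)), e, f⟩
  | 4, ⟨a, b, c, d, e, f⟩ => ⟨(K4.add' a (K4.mul' t b)), b, (K4.add' c (K4.mul' (K4.mul' t t) d)), d, (K4.add' e (K4.mul' t f)), f⟩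
  | 5, ⟨a, b, c, d, e, f⟩ => ⟨a, (K4.add' b (K4.mul' t c)), c, (K4.add' d (K4.mul' t e)), e, f⟩
  | 6, ⟨a, b, c, d, e, f⟩ => ⟨a, b, (K4.add' c (K4.mul' t b)), d, (K4.add' e (K4.mul' t d)), f⟩
  | 7, ⟨a, b, c, d, e, f⟩ => ⟨a, (K4.add' b (K4.mul' t a)), c, (K4.add' d (K4.mul' (K4.mul' t t) c)), e, (K4.add' f (K4.mul' t e))⟩
  | 8, ⟨a, b, c, d, e, f⟩ => ⟨a, b, (K4.add' c (K4.mul' t a)), d, (K4.add' e (K4.mul' (K4.mul' t t) b)), (K4.add' f (K4.mul' t d))⟩
  | 9, ⟨a, b, c, d, e, f⟩ => ⟨a, b, c, (K4.add' d (K4.mul' t b)), (K4.add' e (K4.mul' t c)), (K4.add' f (K4.mul' (K4.mul' t t) a))⟩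
  | 10, ⟨a, b, c, d, e, f⟩ => ⟨a, b, c, (K4.add' d (K4.mul' t a)), e, (K4.add' f (K4.mul' t c))⟩
  | 11, ⟨a, b, c, d, e, f⟩ => ⟨a, b, c, d, (K4.add' e (K4.mul' t a)), (K4.add' f (K4.mul' t b))⟩
  | _, v => v

/-- The terms of the commutator formula with coefficients modulo two. -/
def termTab : List (List (List (ℕ × Bool × ℕ × ℕ))) :=
  [[[], [], [], [], [], [], [(1, true, 1, 1)], [], [(2, true, 1, 1), (4, true, 1, 2), (6, true, 1, 3), (1, false, 2, 3)], [(3, true, 1, 1), (7, true, 1, 2), (10, true, 1, 3), (5, false, 2, 3)], [(5, true, 1, 1)], []],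
   [[], [], [], [], [], [(0, true, 1, 1)], [], [(2, true, 1, 1), (3, true, 1, 2), (5, true, 1, 3), (0, false, 2, 3)], [], [(4, true, 1, 1), (8, true, 1, 2), (11, true, 1, 3), (6, false, 2, 3)], [], [(6, true, 1, 1)]],
   [[], [], [], [(0, true, 1, 1)], [(1, true, 1, 1)], [], [], [(3, false, 1, 1), (0, true, 2, 1), (5, true, 1, 2)], [(4, false, 1, 1), (1, true, 2, 1), (6, true, 1, 2)], [], [(7, true, 1, 1), (3, true, 2, 1), (0, true, 3, 1), (5, true, 3, 2)], [(8, true, 1, 1), (4, true, 2, 1), (1, true, 3, 1), (6, true, 3, 2)]],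
   [[], [], [(0, true, 1, 1)], [], [(2, false, 1, 1), (0, true, 2, 1), (1, true, 1, 2)], [], [(4, true, 1, 1), (2, true, 2, 1), (0, true, 3, 1), (1, true, 3, 2)], [(5, true, 1, 1)], [], [(7, false, 1, 1), (5, true, 2, 1), (10, true, 1, 2)], [], [(9, true, 1, 1), (7, true, 2, 1), (5, true, 3, 1), (10, true, 3, 2)]],
   [[], [], [(1, true, 1, 1)], [(2, false, 1, 1), (1, true, 2, 1), (0, true, 1, 2)], [], [(3, true, 1, 1), (2, true, 2, 1), (1, true, 3, 1), (0, true, 3, 2)], [], [], [(6, true, 1, 1)], [(8, false, 1, 1), (6, true, 2, 1), (11, true, 1, 2)], [(9, true, 1, 1), (8, true, 2, 1), (6, true, 3, 1), (11, true, 3, 2)], []],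
   [[], [(0, true, 1, 1)], [], [], [(3, true, 1, 1), (2, true, 1, 2), (1, true, 1, 3), (0, false, 2, 3)], [], [], [], [(7, true, 1, 1), (9, true, 1, 2), (11, true, 1, 3), (10, false, 2, 3)], [], [], [(10, true, 1, 1)]],
   [[(1, true, 1, 1)], [], [], [(4, true, 1, 1), (2, true, 1, 2), (0, true, 1, 3), (1, false, 2, 3)], [], [], [], [(8, true, 1, 1), (9, true, 1, 2), (10, true, 1, 3), (11, false, 2, 3)], [], [], [(11, true, 1, 1)], []],
   [[], [(2, true, 1, 1), (3, true, 2, 1), (5, true, 3, 1), (0, true, 3, 2)], [(3, false, 1, 1), (5, true, 2, 1), (0, true, 1, 2)], [(5, true, 1, 1)], [], [], [(8, true, 1, 1), (9, true, 2, 1), (10, true, 3, 1), (11, true, 3, 2)], [], [(9, false, 1, 1), (10, true, 2, 1), (11, true, 1, 2)], [(10, true, 1, 1)], [], []],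
   [[(2, true, 1, 1), (4, true, 2, 1), (6, true, 3, 1), (1, true, 3, 2)], [], [(4, false, 1, 1), (6, true, 2, 1), (1, true, 1, 2)], [], [(6, true, 1, 1)], [(7, true, 1, 1), (9, true, 2, 1), (11, true, 3, 1), (10, true, 3, 2)], [], [(9, false, 1, 1), (11, true, 2, 1), (10, true, 1, 2)], [], [(11, true, 1, 1)], [], []],
   [[(3, true, 1, 1), (7, true, 2, 1), (10, true, 3, 1), (5, true, 3, 2)], [(4, true, 1, 1), (8, true, 2, 1), (11, true, 3, 1), (6, true, 3, 2)], [], [(7, false, 1, 1), (10, true, 2, 1), (5, true, 1, 2)], [(8, false, 1, 1), (11, true, 2, 1), (6, true, 1, 2)], [], [], [(10, true, 1, 1)], [(11, true, 1, 1)], [], [], []],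
   [[(5, true, 1, 1)], [], [(7, true, 1, 1), (3, true, 1, 2), (0, true, 1, 3), (5, false, 2, 3)], [], [(9, true, 1, 1), (8, true, 1, 2), (6, true, 1, 3), (11, false, 2, 3)], [], [(11, true, 1, 1)], [], [], [], [], []],
   [[], [(6, true, 1, 1)], [(8, true, 1, 1), (4, true, 1, 2), (1, true, 1, 3), (6, false, 2, 3)], [(9, true, 1, 1), (7, true, 1, 2), (5, true, 1, 3), (10, false, 2, 3)], [], [(10, true, 1, 1)], [], [], [], [], [], []]]

/-- A power by repeated multiplication. -/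
def powK (t : K4) : ℕ → K4
  | 0 => K4.one
  | n + 1 => K4.mul' (powK t n) t

/-- The parameter of a term. -/
def termPar (t u : K4) (c : ℕ × Bool × ℕ × ℕ) : K4 :=
  if c.2.1 then K4.mul' (powK t c.2.2.1) (powK u c.2.2.2) else K4.zero

/-- The product of the root matrices of the terms, applied to a vector. -/
def actTerms (t u : K4) (T : List (ℕ × Bool × ℕ × ℕ)) (v : V6) : V6 :=
  T.foldr (fun c w => act (termPar t u c) c.1 w) v

/-- The commutator relation for a pair of roots, on the unit vectors. -/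
def relPair (r s : ℕ) : Bool :=
  [K4.zero, K4.one, K4.w, K4.w1].all fun t => [K4.zero, K4.one, K4.w, K4.w1].all fun u => V6.basis.all fun v =>
    decide (act u s (act t r v) = act t r (act u s (actTerms t u ((termTab.getD r []).getD s []) v)))

theorem termTab_spec : ∀ r s : Fin 12, s ≠ r → s.val ≠ chevG2.neg r.val →
    (chevG2.commTerms r.val s.val).map (fun c => (c.1, decide (c.2.1 % 2 = 1), c.2.2.1, c.2.2.2))
      = (termTab.getD r.val []).getD s.val [] := by
  decide +kernel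

theorem relPair_all : ∀ r s : Fin 12, s ≠ r → s.val ≠ chevG2.neg r.val → relPair r.val s.val = true := by
  decide +kernel

theorem add'_eq (x y : K4) : K4.add' x y = x + y := rfl

theorem mul'_eq (x y : K4) : K4.mul' x y = x * y := rfl

theorem vec_act (r : Fin 12) (t : K4) (v : V6) : (act t r.val v).vec = rootMat r.val t *ᵥ v.vec := by
  obtain ⟨a, b, c, d, e, f⟩ := v
  funext i
  fin_cases r <;> fin_cases i <;>
    simp +decide [act, V6.vec, Matrix.mulVec, dotProduct, Fin.sum_univ_six, rootMat, rootTab, add'_eq, mul'_eq] <;>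
    ring

theorem intCast_eq (C : ℤ) : (C : K4) = if decide (C % 2 = 1) then K4.one else K4.zero := by
  have h2 : ((2 : ℤ) : K4) = 0 := by decide
  rw [← Int.emod_add_mul_ediv C 2, Int.cast_add, Int.cast_mul, h2, zero_mul, add_zero]
  rcases Int.emod_two_eq_zero_or_one C with h | h
  · simp [h]; rfl
  · simp [h]; rfl

theorem powK_eq (t : K4) : ∀ n, powK t n = t ^ n
  | 0 => rfl
  | n + 1 => by rw [pow_succ, ← powK_eq t n]; rfl

theorem termPar_eq (t u : K4) (c : ℕ × ℤ × ℕ × ℕ) :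
    (c.2.1 : K4) * (-t) ^ c.2.2.1 * u ^ c.2.2.2 = termPar t u (c.1, decide (c.2.1 % 2 = 1), c.2.2.1, c.2.2.2) := by
  have hneg : -t = t := rfl
  rw [hneg, intCast_eq, termPar, powK_eq, powK_eq]
  by_cases h : c.2.1 % 2 = 1
  · simp only [h, decide_true, if_true]
    rw [show K4.one = (1 : K4) from rfl, one_mul]; rfl
  · simp only [h, decide_false, Bool.false_eq_true, if_false]
    rw [show K4.zero = (0 : K4) from rfl, zero_mul, zero_mul]

theorem termTab_lt : ∀ r s : Fin 12, ∀ c ∈ (termTab.getD r.val []).getD s.val [], c.1 < 12 := by decide +kernel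

theorem vec_actTerms (t u : K4) : ∀ (T : List (ℕ × Bool × ℕ × ℕ)), (∀ c ∈ T, c.1 < 12) → ∀ v : V6,
    (actTerms t u T v).vec = (T.map fun c => rootMat c.1 (termPar t u c)).prod *ᵥ v.vec
  | [], _, v => by simp [actTerms]
  | c :: T, h, v => by
    rw [List.map_cons, List.prod_cons, ← Matrix.mulVec_mulVec, ← vec_actTerms t u T (fun d hd => h d (List.mem_cons_of_mem _ hd))]
    exact vec_act ⟨c.1, h c List.mem_cons_self⟩ _ _

theorem vec_basis : ∀ j : Fin 6, ∃ v ∈ V6.basis, v.vec = Pi.single j 1 := by decide +kernel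

theorem rootMat_rel {r s : ℕ} (hr : r < 12) (hs : s < 12) (h1 : s ≠ r) (h2 : s ≠ chevG2.neg r) (t u : K4) :
    rootMat s u * rootMat r t = rootMat r t * rootMat s u * commMat r s t u := by
  have hne : (⟨s, hs⟩ : Fin 12) ≠ ⟨r, hr⟩ := fun h => h1 (congrArg Fin.val h)
  have hrel := relPair_all ⟨r, hr⟩ ⟨s, hs⟩ hne h2
  have hT := termTab_spec ⟨r, hr⟩ ⟨s, hs⟩ hne h2
  have hcomm : commMat r s t u = (((termTab.getD r []).getD s []).map fun c => rootMat c.1 (termPar t u c)).prod := by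
    simp only at hT
    rw [← hT, commMat, List.map_map]
    simp only [Function.comp_def, termPar_eq]
  refine Matrix.ext_of_mulVec_single fun j => ?_
  obtain ⟨v, hv, he⟩ := vec_basis j
  simp only [relPair, List.all_eq_true, decide_eq_true_eq] at hrel
  have h := congrArg V6.vec (hrel t (by cases t <;> simp) u (by cases u <;> simp) v hv)
  rw [← he, ← Matrix.mulVec_mulVec, ← Matrix.mulVec_mulVec, ← Matrix.mulVec_mulVec, hcomm,
    ← vec_actTerms t u _ (termTab_lt ⟨r, hr⟩ ⟨s, hs⟩)]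
  rw [vec_act ⟨s, hs⟩, vec_act ⟨r, hr⟩, vec_act ⟨r, hr⟩, vec_act ⟨s, hs⟩] at h
  exact h

end Cfsg.Agent.H50.G2Four
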