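import Mathlib

/-!
# A decidable model of the field with four elements
-/

set_option autoImplicit false

namespace Cfsg.Agent.H50.G2Four

/-- The four elements `0, 1, ω, ω + 1`. -/
inductive K4 : Type
  | zero | one | w | w1
  deriving DecidableEq

instance : Fintype K4 where
  elems := {.zero, .one, .w, .w1}
  complete x := by cases x <;> decide

namespace K4

/-- Addition. -/
def add' : K4 → K4 → K4
  | zero, y => y
  | x, zero => x
  | one, one => zero
  | one, w => w1
  | one, w1 => w
  | w, one => w1
  | w, w => zero
  | w, w1 => one
  | w1, one => w
  | w1, w => one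
  | w1, w1 => zero

/-- Multiplication. -/
def mul' : K4 → K4 → K4
  | zero, _ => zero
  | _, zero => zero
  | one, y => y
  | x, one => x
  | w, w => w1
  | w, w1 => one
  | w1, w => one
  | w1, w1 => w

instance : Zero K4 := ⟨zero⟩
instance : One K4 := ⟨one⟩
instance : Add K4 := ⟨add'⟩
instance : Mul K4 := ⟨mul'⟩
instance : Neg K4 := ⟨id⟩

instance : CommRing K4 where
  add_assoc := by decide
  zero_add := by decide
  add_zero := by decide
  add_comm := by decide
  mul_assoc := by decide
  one_mul := by decide
  mul_one := by decide
  zero_mul := by decide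
  mul_zero := by decide
  left_distrib := by decide
  right_distrib := by decide
  mul_comm := by decide
  neg_add_cancel := by decide
  nsmul := nsmulRec
  zsmul := zsmulRec

variable {F : Type*} [Field F]

/-- The value of an element at a primitive cube root of unity. -/
def val (ω : F) : K4 → F
  | zero => 0
  | one => 1
  | w => ω
  | w1 => ω + 1

theorem exists_hom [Fintype F] (hF : Fintype.card F = 4) : ∃ f : K4 →+* F, Function.Bijective f := by
  classical
  haveI : Fact (Nat.Prime 2) := ⟨Nat.prime_two⟩
  haveI hchar : CharP F 2 := by
    obtain ⟨p, hp⟩ := CharP.exists F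
    haveI := hp
    obtain ⟨n, hprime, hn⟩ := FiniteField.card F p
    rw [hF] at hn
    have : p ∣ 2 ^ 2 := by
      rw [show (2 : ℕ) ^ 2 = 4 by norm_num, hn]
      exact dvd_pow_self p n.ne_zero
    rw [(Nat.prime_dvd_prime_iff_eq hprime Nat.prime_two).mp (hprime.dvd_of_dvd_pow this)] at hp
    exact hp
  obtain ⟨ω, -, hω⟩ : ∃ ω ∈ (Finset.univ : Finset F), ω ∉ ({0, 1} : Finset F) :=
    Finset.exists_mem_notMem_of_card_lt_card (Finset.card_le_two.trans_lt (by rw [Finset.card_univ, hF]; norm_num))
  simp only [Finset.mem_insert, Finset.mem_singleton, not_or] at hω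
  have h2 : (1 : F) + 1 = 0 := CharTwo.add_self_eq_zero 1
  have h3 : ω ^ 3 = 1 := by
    have := FiniteField.pow_card_sub_one_eq_one ω hω.1
    rwa [hF] at this
  have hq : ω * ω = ω + 1 := by
    have e : (ω - 1) * (ω * ω + ω + 1) = 0 := by linear_combination h3
    rcases mul_eq_zero.mp e with h | h
    · exact absurd (sub_eq_zero.mp h) hω.2
    · linear_combination h - (ω + 1) * h2
  have hadd : ∀ x y : K4, val ω (x + y) = val ω x + val ω y := by
    intro x y
    rw [show x + y = add' x y from rfl]
    cases x <;> cases y <;> simp only [add', val] <;>
      first | ring1 | linear_combination (0 : F) * h2 | linear_combination -h2 | linear_combination -ω * h2 |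
        linear_combination -(ω + 1) * h2 | linear_combination h2 | linear_combination ω * h2
  let f : K4 →+* F :=
    { toFun := val ω
      map_one' := rfl
      map_zero' := rfl
      map_add' := hadd
      map_mul' := by
        intro x y
        rw [show x * y = mul' x y from rfl]
        cases x <;> cases y <;> simp only [mul', val] <;>
          first | ring1 | linear_combination -hq | linear_combination -hq - (ω + 1) * h2 | linear_combination -hq - ω * h2 |
            linear_combination -hq - h2 | linear_combination -hq + h2 | linear_combination -hq - (2 * ω + 1) * h2 }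
  have hinj : Function.Injective f := by
    rw [injective_iff_map_eq_zero]
    intro x hx
    cases x
    · rfl
    · exact absurd hx one_ne_zero
    · exact absurd hx hω.1
    · exfalso
      refine hω.2 ?_
      change ω + 1 = 0 at hx
      linear_combination hx - h2
  refine ⟨f, (Fintype.bijective_iff_injective_and_card f).mpr ⟨hinj, ?_⟩⟩
  rw [hF]
  rfl

end K4

end Cfsg.Agent.H50.G2Four
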