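import Cfsg.Agent.H50.G2Four.Field
import Cfsg.Prelude.Def_ChevG2
import Cfsg.Prelude.Def_ChevStructure

/-!
# The six-dimensional matrices of G₂ in characteristic two

For each root the matrix on the six short weights, the commutator relations over the field with
four elements, the invariant alternating form and a few explicit elements.
-/

set_option autoImplicit false
set_option maxRecDepth 100000
set_option maxHeartbeats 4000000

namespace Cfsg.Agent.H50.G2Four

open Cfsg.Lie Matrix

/-- Six by six matrices. -/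
abbrev M6 (K : Type*) := Matrix (Fin 6) (Fin 6) K

/-- The off-diagonal entries of the root matrices: position and degree. -/
def rootTab : List (List (ℕ × ℕ × ℕ)) :=
  [[(0, 4, 1), (1, 5, 1)],
   [(0, 3, 1), (2, 5, 1)],
   [(0, 5, 2), (1, 3, 1), (2, 4, 1)],
   [(0, 2, 1), (1, 4, 2), (3, 5, 1)],
   [(0, 1, 1), (2, 3, 2), (4, 5, 1)],
   [(1, 2, 1), (3, 4, 1)],
   [(2, 1, 1), (4, 3, 1)],
   [(1, 0, 1), (3, 2, 2), (5, 4, 1)],
   [(2, 0, 1), (4, 1, 2), (5, 3, 1)],
   [(3, 1, 1), (4, 2, 1), (5, 0, 2)],
   [(3, 0, 1), (5, 2, 1)],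
   [(4, 0, 1), (5, 1, 1)]]

/-- The root matrix. -/
def rootMat {K : Type*} [CommRing K] (r : ℕ) (t : K) : M6 K := Matrix.of fun i j =>
  if i = j then 1 else
    match (rootTab.getD r []).find? (fun e => e.1 == i.val && e.2.1 == j.val) with
    | none => 0
    | some e => if e.2.2 = 1 then t else t * t

/-- The right-hand side of the commutator formula. -/
def commMat {K : Type*} [CommRing K] (r s : ℕ) (t u : K) : M6 K :=
  ((chevG2.commTerms r s).map fun c => rootMat c.1 ((c.2.1 : K) * (-t) ^ c.2.2.1 * u ^ c.2.2.2)).prod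

/-- The Gram matrix of the invariant alternating form. -/
def form (K : Type*) [CommRing K] : M6 K := Matrix.of fun i j => if i.val + j.val = 5 then 1 else 0

theorem rootMat_add : ∀ r : Fin 12, ∀ t u : K4, rootMat r.val t * rootMat r.val u = rootMat r.val (t + u) := by
  decide +kernel

theorem rootMat_form : ∀ r : Fin 12, ∀ t : K4, (rootMat r.val t)ᵀ * form K4 * rootMat r.val t = form K4 := by
  decide +kernel

theorem rootMat_noncomm : rootMat 6 (1 : K4) * rootMat 7 1 ≠ rootMat 7 1 * rootMat 6 1 := by decide +kernel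

/-- An element of order 7. -/
def u7 : M6 K4 := rootMat 6 1 * rootMat 7 1 * rootMat 2 1

/-- An element of order 13. -/
def u13 : M6 K4 := rootMat 6 1 * rootMat 7 1 * rootMat 4 .w * rootMat 2 1

/-- An element of order 6. -/
def u6 : M6 K4 := rootMat 6 1 * rootMat 7 1 * rootMat 5 1

/-- An element of order 10. -/
def u10 : M6 K4 := rootMat 6 1 * rootMat 7 1 * rootMat 5 .w

/-- The inverse of `u7 - 1`. -/
def inv7 : M6 K4 :=
  !![.one, .one, .zero, .one, .one, .zero;
    .zero, .one, .one, .zero, .zero, .one;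
    .zero, .zero, .zero, .one, .zero, .one;
    .zero, .zero, .zero, .one, .one, .zero;
    .zero, .zero, .zero, .zero, .zero, .one;
    .one, .zero, .zero, .zero, .zero, .zero]

/-- The inverse of `u13 - 1`. -/
def inv13 : M6 K4 :=
  !![.w, .zero, .one, .w1, .w1, .one;
    .one, .w1, .w1, .zero, .zero, .w1;
    .one, .w, .w, .one, .zero, .w1;
    .w1, .one, .one, .w1, .w1, .one;
    .w1, .one, .one, .w, .w, .zero;
    .w, .w1, .w1, .one, .one, .w1]

theorem inv7_mul : inv7 * (u7 - 1) = 1 := by decide +kernel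

theorem inv13_mul : inv13 * (u13 - 1) = 1 := by decide +kernel

end Cfsg.Agent.H50.G2Four
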