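import Cfsg.Agent.H50.G2Four.Model

/-!
# Matrix units as products of root matrices
-/

set_option autoImplicit false
set_option maxRecDepth 100000
set_option maxHeartbeats 4000000

namespace Cfsg.Agent.H50.G2Four

/-- Products of `rootMat r 1 - 1` giving the matrix units. -/
def unitWord : List (List (List ℕ)) :=
  [[[0, 4, 9], [0, 4, 11], [0, 4, 10], [0, 6], [1, 5], [0, 4]],
   [[0, 7, 11], [0, 7, 8], [0, 10], [0, 7, 6], [0, 7], [2, 3]],
   [[1, 7, 11], [1, 11], [1, 7, 9], [1, 8], [1, 8, 5], [2, 4]],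
   [[5, 11], [3, 7, 8], [3, 10], [3, 7, 6], [3, 7], [3, 7, 4]],
   [[6, 10], [4, 11], [4, 7, 9], [4, 8], [4, 8, 5], [4, 8, 3]],
   [[7, 11], [8, 9], [7, 9], [7, 4, 8], [7, 9, 2], [7, 9, 1]]]

theorem unitWord_spec : ∀ i j : Fin 6,
    (((unitWord.getD i.val []).getD j.val []).map fun r => rootMat r (1 : K4) - 1).prod
      = Matrix.of (fun a b : Fin 6 => if a = i ∧ b = j then (1 : K4) else 0) := by
  decide +kernel

/-- A matrix commuting with all root matrices is scalar. -/
theorem scalar_of_commute (z : M6 K4) (h : ∀ r < 12, Commute z (rootMat r (1 : K4))) :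
    z = z 0 0 • (1 : M6 K4) := by
  have hu : ∀ i j : Fin 6, Commute z (Matrix.of (fun a b : Fin 6 => if a = i ∧ b = j then (1 : K4) else 0)) := by
    intro i j
    rw [← unitWord_spec i j]
    refine Commute.list_prod_right _ _ fun x hx => ?_
    obtain ⟨r, hr, rfl⟩ := List.mem_map.mp hx
    refine (h r ?_).sub_right (Commute.one_right z)
    have key : ∀ i j : Fin 6, ∀ r ∈ (unitWord.getD i.val []).getD j.val [], r < 12 := by decide +kernel
    exact key i j r hr
  have hd : ∀ i : Fin 6, z i i = z 0 0 := fun i => by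
    have := congrFun (congrFun (hu i 0).eq i) 0
    simpa [Matrix.mul_apply, Finset.sum_ite_eq', Finset.sum_ite_eq] using this
  have ho : ∀ i j : Fin 6, i ≠ j → z i j = 0 := fun i j hij => by
    have := congrFun (congrFun (hu j j).eq i) j
    simpa [Matrix.mul_apply, hij, Finset.sum_ite_eq', Finset.sum_ite_eq] using this
  refine Matrix.ext fun i j => ?_
  by_cases hij : i = j
  · subst hij; simp [hd]
  · simp [ho i j hij, hij]

end Cfsg.Agent.H50.G2Four
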