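import Cfsg.Agent.H50.G2Four.Fast
import Cfsg.Agent.H50.G2Four.Units
import Cfsg.Agent.H47.OmegaIso
import Cfsg.Agent.S1059

/-!
# G₂(4) as a group of symplectic six by six matrices
-/

set_option autoImplicit false

namespace Cfsg.Agent.H50.G2Four

open Cfsg.Lie Cfsg.Agent.H46 Cfsg.Agent.H70.Steinberg Matrix

/-- The root elements. -/
def gK (r : ℕ) (t : K4) : GL (Fin 6) K4 :=
  if h : r < 12 then
    ⟨rootMat r t, rootMat r t, by
      rw [rootMat_add ⟨r, h⟩, show t + t = 0 by cases t <;> rfl]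
      exact (by decide +kernel : ∀ r : Fin 12, rootMat r.val (0 : K4) = 1) ⟨r, h⟩, by
      rw [rootMat_add ⟨r, h⟩, show t + t = 0 by cases t <;> rfl]
      exact (by decide +kernel : ∀ r : Fin 12, rootMat r.val (0 : K4) = 1) ⟨r, h⟩⟩
  else 1

theorem coe_gK {r : ℕ} (h : r < 12) (t : K4) : (gK r t : M6 K4) = rootMat r t := by
  simp [gK, h]

/-- The group generated by the root elements. -/
def grp : Subgroup (GL (Fin 6) K4) := Subgroup.closure {g | ∃ (r : ℕ) (t : K4), r < 12 ∧ g = gK r t}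

theorem gK_mem {r : ℕ} (h : r < 12) (t : K4) : gK r t ∈ grp := Subgroup.subset_closure ⟨r, t, h, rfl⟩

theorem commTerms_lt : ∀ r < 12, ∀ s < 12, ∀ c ∈ chevG2.commTerms r s, c.1 < 12 := by decide +kernel

theorem form_of_mem {g : GL (Fin 6) K4} (hg : g ∈ grp) : (g : M6 K4)ᵀ * form K4 * (g : M6 K4) = form K4 := by
  induction hg using Subgroup.closure_induction with
  | mem x hx =>
    obtain ⟨r, t, hr, rfl⟩ := hx
    rw [coe_gK hr]
    exact rootMat_form ⟨r, hr⟩ t
  | one => simp
  | mul x y _ _ hx hy =>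
    rw [Units.val_mul, Matrix.transpose_mul]
    calc (y : M6 K4)ᵀ * (x : M6 K4)ᵀ * form K4 * ((x : M6 K4) * (y : M6 K4))
        = (y : M6 K4)ᵀ * ((x : M6 K4)ᵀ * form K4 * (x : M6 K4)) * (y : M6 K4) := by simp only [Matrix.mul_assoc]
      _ = form K4 := by rw [hx, hy]
  | inv x _ hx =>
    calc ((x⁻¹ : GL (Fin 6) K4) : M6 K4)ᵀ * form K4 * ((x⁻¹ : GL (Fin 6) K4) : M6 K4)
        = ((x⁻¹ : GL (Fin 6) K4) : M6 K4)ᵀ * ((x : M6 K4)ᵀ * form K4 * (x : M6 K4))
            * ((x⁻¹ : GL (Fin 6) K4) : M6 K4) := by rw [hx]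
      _ = ((x : M6 K4) * ((x⁻¹ : GL (Fin 6) K4) : M6 K4))ᵀ * form K4
            * ((x : M6 K4) * ((x⁻¹ : GL (Fin 6) K4) : M6 K4)) := by
          simp only [Matrix.transpose_mul, Matrix.mul_assoc]
      _ = form K4 := by simp

theorem center_grp : Subgroup.center ↥grp = ⊥ := by
  rw [eq_bot_iff]
  intro z hz
  rw [Subgroup.mem_bot]
  have hz' : ∀ r < 12, Commute ((z : GL (Fin 6) K4) : M6 K4) (rootMat r (1 : K4)) := fun r hr => by
    have := congrArg (fun g : ↥grp => ((g : GL (Fin 6) K4) : M6 K4))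
      (Subgroup.mem_center_iff.mp hz ⟨gK r 1, gK_mem hr 1⟩)
    simp only [Subgroup.coe_mul, Units.val_mul, coe_gK hr] at this
    exact this.symm
  have hs := scalar_of_commute _ hz'
  generalize hc : ((z : GL (Fin 6) K4) : M6 K4) 0 0 = c at hs
  have hf := form_of_mem z.2
  rw [hs] at hf
  have key : ∀ c : K4, ((c • (1 : M6 K4))ᵀ * form K4 * (c • (1 : M6 K4))) 0 5 = (form K4) 0 5 → c = 1 := by
    decide +kernel
  rw [key c (congrFun (congrFun hf 0) 5), one_smul] at hs
  exact Subtype.ext (Units.ext hs)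

variable {F : Type*} [Field F]

/-- The root elements indexed over the field. -/
def tau (e : F ≃+* K4) (r : ℕ) (t : F) : ↥grp :=
  if h : r < 12 then ⟨gK r (e t), gK_mem h _⟩ else 1

theorem coe_tau (e : F ≃+* K4) {r : ℕ} (h : r < 12) (t : F) :
    ((tau e r t : GL (Fin 6) K4) : M6 K4) = rootMat r (e t) := by
  simp [tau, h, coe_gK h]

theorem coe_wordEval (e : F ≃+* K4) (w : List (ℕ × F)) (hw : ∀ p ∈ w, p.1 < 12) :
    (((wordEval (tau e) w : ↥grp) : GL (Fin 6) K4) : M6 K4) = (w.map fun p => rootMat p.1 (e p.2)).prod := by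
  induction w with
  | nil => simp [wordEval]
  | cons p w ih =>
    have := ih fun q hq => hw q (List.mem_cons_of_mem _ hq)
    simp only [wordEval, List.map_cons, List.prod_cons, Subgroup.coe_mul, Units.val_mul] at this ⊢
    rw [this, coe_tau e (hw p List.mem_cons_self)]

theorem tau_add (e : F ≃+* K4) : ∀ r, r < chevG2.nroots → ∀ t u : F, tau e r t * tau e r u = tau e r (t + u) := by
  intro r hr t u
  replace hr : r < 12 := hr
  refine Subtype.ext (Units.ext ?_)
  rw [Subgroup.coe_mul, Units.val_mul, coe_tau e hr, coe_tau e hr, coe_tau e hr, map_add]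
  exact rootMat_add ⟨r, hr⟩ _ _

theorem tau_comm (e : F ≃+* K4) : ∀ r s, r < chevG2.nroots → s < chevG2.nroots → s ≠ r → s ≠ chevG2.neg r →
    ∀ t u : F, tau e s u * tau e r t = tau e r t * tau e s u * wordEval (tau e) (chevG2.commWord F r s t u) := by
  intro r s hr hs h1 h2 t u
  replace hr : r < 12 := hr
  replace hs : s < 12 := hs
  refine Subtype.ext (Units.ext ?_)
  simp only [Subgroup.coe_mul, Units.val_mul, coe_tau e hr, coe_tau e hs]
  rw [coe_wordEval e _ (fun p hp => by
    obtain ⟨c, hc, rfl⟩ := List.mem_map.mp hp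
    exact commTerms_lt r hr s hs c hc)]
  simp only [ChevalleyDatum.commWord, List.map_map, Function.comp_def, map_mul, map_pow, map_neg, map_intCast]
  exact rootMat_rel hr hs h1 h2 _ _

theorem closure_tau (e : F ≃+* K4) :
    Subgroup.closure {g : ↥grp | ∃ (r : ℕ) (t : F), r < chevG2.nroots ∧ g = tau e r t} = ⊤ := by
  rw [eq_top_iff]
  refine le_trans (b := Subgroup.closure ((Subtype.val : ↥grp → GL (Fin 6) K4) ⁻¹'
    {g | ∃ (r : ℕ) (t : K4), r < 12 ∧ g = gK r t})) ?_ ((Subgroup.closure_le _).mpr ?_)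
  · exact (Subgroup.closure_closure_coe_preimage (k := {g | ∃ (r : ℕ) (t : K4), r < 12 ∧ g = gK r t})).ge
  · rintro ⟨g, hg⟩ ⟨r, t, hr, he⟩
    refine Subgroup.subset_closure ⟨r, e.symm t, hr, Subtype.ext (Units.ext ?_)⟩
    rw [coe_tau e hr, RingEquiv.apply_symm_apply, ← coe_gK hr, ← he]

theorem commutator_grp (e : F ≃+* K4) (h2 : ∃ a : F, a ≠ 0 ∧ a ≠ 1) : commutator ↥grp = ⊤ := by
  let P := coverPres goodG2 (F := F)
  have hperf : commutator (chevG2.SteinbergCover F) = ⊤ := perfect_of_mem P (by simp) fun _ => h2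
  have hrel : ∀ g ∈ chevG2.steinbergRelsAB F,
      FreeGroup.lift (fun p : Fin chevG2.nroots × F => tau e p.1.val p.2) g = 1 := by
    have hX : ∀ {r : ℕ}, r < chevG2.nroots → ∀ t : F,
        FreeGroup.lift (fun p : Fin chevG2.nroots × F => tau e p.1.val p.2) (chevG2.stX r t) = tau e r t := by
      intro r hr t
      simp [ChevalleyDatum.stX, hr]
    have hW : ∀ w : List (ℕ × F), (∀ p ∈ w, p.1 < chevG2.nroots) →
        FreeGroup.lift (fun p : Fin chevG2.nroots × F => tau e p.1.val p.2) (chevG2.stWord w) = wordEval (tau e) w := by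
      intro w
      induction w with
      | nil => simp [ChevalleyDatum.stWord, wordEval]
      | cons p w ih =>
        intro h
        have ih' := ih fun q hq => h q (List.mem_cons_of_mem _ hq)
        simp only [ChevalleyDatum.stWord, wordEval, List.map_cons, List.prod_cons, map_mul] at ih' ⊢
        rw [ih', hX (h p List.mem_cons_self)]
    rintro g (⟨r, t, u, hr, rfl⟩ | ⟨r, s, t, u, hr, hs, h1, h2, rfl⟩)
    · simp [hX hr, tau_add e r hr]
    · simp only [map_mul, map_inv, hX hr, hX hs, hW _ (commWord_lt goodG2 hr hs t u)]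
      rw [mul_assoc (_ * _) (tau e s u) (tau e r t), tau_comm e r s hr hs h1 h2]
      group
  let φ : chevG2.SteinbergCover F →* ↥grp := PresentedGroup.toGroup hrel
  have hsurj : φ.range = ⊤ := by
    rw [eq_top_iff, ← closure_tau e, Subgroup.closure_le]
    rintro _ ⟨r, t, hr, rfl⟩
    refine ⟨P.X r t, ?_⟩
    show FreeGroup.lift (fun p : Fin chevG2.nroots × F => tau e p.1.val p.2) (chevG2.stX r t) = tau e r t
    simp [ChevalleyDatum.stX, hr]
  rw [eq_top_iff, ← hsurj, MonoidHom.range_eq_map, ← hperf, commutator_def, Subgroup.map_commutator, commutator_def]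
  exact Subgroup.commutator_mono le_top le_top

theorem nonempty_equiv [Fintype F] (hF : Fintype.card F = 4) : Nonempty (↥(chevG2.group F) ≃* ↥grp) := by
  classical
  obtain ⟨f, hf⟩ := K4.exists_hom hF
  let e : F ≃+* K4 := (RingEquiv.ofBijective f hf).symm
  have h2 : ∃ a : F, a ≠ 0 ∧ a ≠ 1 :=
    ⟨f K4.w, fun h => absurd (hf.1 (h.trans (map_zero f).symm)) (by decide),
      fun h => absurd (hf.1 (h.trans (map_one f).symm)) (by decide)⟩
  obtain ⟨E⟩ := Cfsg.Agent.H47.OmegaIso.equiv_of_rels (O := ↥grp) goodG2 (by simp) (fun _ => h2) (tau e)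
    (tau_add e) (tau_comm e) (by rw [closure_tau e]; exact le_top)
    ⟨6, 7, 1, 1, show 6 < 12 by norm_num, show 7 < 12 by norm_num, fun h => by
      have := congrArg (fun g : ↥grp => ((g : GL (Fin 6) K4) : M6 K4)) h
      simp only [Subgroup.coe_mul, Units.val_mul, coe_tau e (show 6 < 12 by norm_num),
        coe_tau e (show 7 < 12 by norm_num), map_one] at this
      exact rootMat_noncomm this⟩
  let c : ↥(commutator ↥grp) ≃* ↥grp := (MulEquiv.subgroupCongr (commutator_grp e h2)).trans Subgroup.topEquiv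
  have hz : Subgroup.center ↥(commutator ↥grp) = ⊥ := by
    rw [eq_bot_iff]
    intro z hzz
    rw [Subgroup.mem_bot]
    have : c z ∈ Subgroup.center ↥grp := Subgroup.mem_center_iff.mpr fun g => by
      obtain ⟨g', rfl⟩ := c.surjective g
      rw [← map_mul, ← map_mul, Subgroup.mem_center_iff.mp hzz g']
    rw [center_grp, Subgroup.mem_bot] at this
    exact c.injective (this.trans (map_one c).symm)
  exact ⟨E.trans ((QuotientGroup.quotientMulEquivOfEq hz).trans (QuotientGroup.quotientBot.trans c))⟩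

end Cfsg.Agent.H50.G2Four
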